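import Cfsg.Agent.SLD.B
import Cfsg.Agent.FinS.Base2

/-! The root group geometry and the final theorem. -/

set_option autoImplicit false
set_option linter.unusedSectionVars false
set_option linter.unusedVariables false

namespace Cfsg.Agent.SLD

open Cfsg.Lie Cfsg.Agent.Chev Cfsg.Agent.SLE Subgroup Cfsg.Agent.PLocal.Amb
open scoped commutatorElement

variable {D : ChevalleyDatum} {T : RootTable D}
variable {E : Type*} [Field E] [Finite E] [CharP E 2] {G : Type*} [Group G] [Finite G]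
  {y : ℕ → E → G} {t : G} {τ : E ≃+* E} {π : ℕ → ℕ}

open FinE (exists_simple_pair idl_simple stp_le hi_mem rt_cj)

theorem hi_cen (h : LD T y) {u w : G} (hu : u ∈ Us D y) (hw : w ∈ XS y {hi T}) : Commute w u :=
  (Rg.comm_XS (S := {hi T}) (g := u)
    (fun r hr a => by rw [hr]; exact (Rg.hi_comm h.sl h.st.toIsSt0 a hu).symm) hw).symm

theorem hi_conj (h : LD T y) {u w : G} (hu : u ∈ Us D y) (hw : w ∈ XS y {hi T}) :
    u * w * u⁻¹ = w := by rw [← (hi_cen h hu hw).eq, mul_inv_cancel_right]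

/-- the second centre of `U` -/
def Z2 (h : LD T y) : Subgroup G where
  carrier := {v | v ∈ Us D y ∧ ∀ s ∈ Us D y, s * v * s⁻¹ * v⁻¹ ∈ XS y {hi T}}
  one_mem' := ⟨one_mem _, fun s _ => by simp⟩
  mul_mem' := fun {v w} hv hw => ⟨mul_mem hv.1 hw.1, fun s hs => by
    have e : s * (v * w) * s⁻¹ * (v * w)⁻¹ =
        s * v * s⁻¹ * v⁻¹ * (v * (s * w * s⁻¹ * w⁻¹) * v⁻¹) := by group
    rw [e, hi_conj h hv.1 (hw.2 s hs)]
    exact mul_mem (hv.2 s hs) (hw.2 s hs)⟩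
  inv_mem' := fun {v} hv => ⟨inv_mem hv.1, fun s hs => by
    have e : s * v⁻¹ * s⁻¹ * v⁻¹⁻¹ = v⁻¹ * (s * v * s⁻¹ * v⁻¹)⁻¹ * v⁻¹⁻¹ := by group
    rw [e, hi_conj h (inv_mem hv.1) (inv_mem (hv.2 s hs))]
    exact inv_mem (hv.2 s hs)⟩

theorem b_mem (h : LD T y) {b : ℕ} {i : Fin D.rank} (s : Sm T b (D.simple i) (hi T)) (a : E) :
    y b a ∈ Z2 h := by
  have h0 := h.st.toIsSt0
  have hb : T.N ≤ b := Rg.pos_of_hi h.sl s.hr (by rw [h.sl.sm_kr s]; exact one_pos)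
  refine ⟨T.mem_Us' hb s.hr a, fun u hu => ?_⟩
  let K : Subgroup G :=
    { carrier := {u | u ∈ Us D y ∧ u * y b a * u⁻¹ * (y b a)⁻¹ ∈ XS y {hi T}}
      one_mem' := ⟨one_mem _, by simp⟩
      mul_mem' := fun {v w} hv hw => ⟨mul_mem hv.1 hw.1, by
        have e : v * w * y b a * (v * w)⁻¹ * (y b a)⁻¹ =
            v * (w * y b a * w⁻¹ * (y b a)⁻¹) * v⁻¹ * (v * y b a * v⁻¹ * (y b a)⁻¹) := by group
        rw [e, hi_conj h hv.1 hw.2]
        exact mul_mem hw.2 hv.2⟩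
      inv_mem' := fun {v} hv => ⟨inv_mem hv.1, by
        have e : v⁻¹ * y b a * v⁻¹⁻¹ * (y b a)⁻¹ =
            v⁻¹ * (v * y b a * v⁻¹ * (y b a)⁻¹)⁻¹ * v⁻¹⁻¹ := by group
        rw [e, hi_conj h (inv_mem hv.1) (inv_mem hv.2)]
        exact inv_mem hv.2⟩ }
  have hK : XS y (Pos T) ≤ K := XS_le.2 fun r hr c => ⟨T.mem_Us' hr.1 hr.2 c, by
    by_cases e : r = D.simple i
    · subst e
      rw [inv_eq_of_mul_eq_one_right (Rg.x_sq h0 s.hs c), h.sl.conj h0 s,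
        (h.sl.com h0 s.hr s.hk (by rw [h.sl.sm_rk s]; exact zero_le_one) _ _).eq,
        mul_inv_cancel_right]
      exact hi_mem _
    · rw [← (h.sl.com h0 s.hr hr.2 (Rg.sub_nonneg h.sl s hr.1 hr.2 e) a c).eq]
      simp⟩
  exact (hK (Us_eq_Pos T y ▸ hu)).2

theorem exists_simple_neg (h : LD T y) {γ : ℕ} (h1 : T.N ≤ γ) (h2 : γ < 2 * T.N)
    (h3 : γ ≠ hi T) : ∃ (j : Fin D.rank) (k : ℕ), Sm T γ (D.simple j) k := by
  by_contra hn
  refine h3 (dom0 h.sl h.g2 h1 h2 fun r a b => ?_)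
  rw [T.pairing_eq_corootHom _ b]
  refine (pos_of_dom T (RootTable.corootHom D γ).toAddMonoidHom (fun j => ?_) b).1 a
  change 0 ≤ RootTable.corootHom D γ (T.vec (D.simple j))
  rw [← T.pairing_eq_corootHom _ (T.simple_lt j)]
  rcases h.sl.tri_cases h2 (T.simple_lt j) with e | e | ⟨k, e⟩
  · have := T.neg_lt_N h1 h2
    have := T.N_le_simple j
    omega
  · exact e
  · exact (hn ⟨j, k, e⟩).elim

theorem z2_sq (h : LD T y) {a : G} (ha : a ∈ Us D y)
    (hc : ∀ s ∈ Us D y, s * a * s⁻¹ * a⁻¹ ∈ XS y {hi T}) : a * a = 1 := by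
  have h0 := h.st.toIsSt0
  obtain ⟨i, p1, p2⟩ := h.alpha
  obtain ⟨b, s⟩ := h.sl.exists_sub (T.simple_lt i) (hi_lt T)
    (by rw [h.sl.symm _ (T.simple_lt i) _ (hi_lt T), p1])
  have key := strip h0 (nil_Pos T) (φ := T.val) Rg.val_pos'
    (fun r hr s hs e => le_antisymm
      (not_lt.1 fun l => (((T.val_lt_iff hs.2 hr.2).2 l).ne' e))
      (not_lt.1 fun l => (((T.val_lt_iff hr.2 hs.2).2 l).ne e)))
    (K := Z2 h) (Ω := {b, hi T})
    (fun γ hγ hΩ c => by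
      rcases hΩ with e | e
      · rw [e]; exact b_mem h s.symm c
      · rw [e]
        exact ⟨T.mem_Us' (le_hi T) (hi_lt T) c, fun u hu => by
          rw [hi_conj h hu (hi_mem c)]; simp⟩)
    (fun γ hγ hΩ c u hu e => by
      obtain ⟨j, k, m⟩ := exists_simple_neg h hγ.1 hγ.2 fun e => hΩ (Or.inr e)
      have hk : k ≠ hi T := by
        rintro rfl
        have : j = i := by
          by_contra ne
          have := p2 j ne
          rw [h.sl.sm_ks m] at this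
          exact one_ne_zero this
        subst this
        exact hΩ (Or.inl (m.symm.uniq' s))
      refine lead_zero h.sl h0 h.nd (nil_Pos T) Rg.val_pos' hγ m (fun r hr => ⟨?_, fun k' m' =>
        ⟨m'.pos hr.1 (T.N_le_simple j), m'.hk⟩⟩) e one_ne_zero ?_
      · have := T.neg_lt_N (T.N_le_simple j) (T.simple_lt j)
        have := hr.1
        omega
      · have h1 := hu.2 _ (T.mem_Us' (T.N_le_simple j) (T.simple_lt j) 1)
        have e2 : u⁻¹ * (y (D.simple j) 1 * u * (y (D.simple j) 1)⁻¹) =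
            u⁻¹ * (y (D.simple j) 1 * u * (y (D.simple j) 1)⁻¹ * u⁻¹) * u⁻¹⁻¹ := by group
        rw [e2, hi_conj h (inv_mem hu.1) h1]
        refine XS_mono (fun r hr => ?_) h1
        rw [hr]
        refine ⟨hi_lt T, (T.val_lt_iff m.hk (hi_lt T)).2 ?_⟩
        have := m.hk
        unfold hi at hk ⊢
        omega)
    (Us_eq_Pos T y ▸ ha) ⟨ha, hc⟩
  have hcm : ∀ r ∈ Pos T ∩ {b, hi T}, ∀ r' ∈ Pos T ∩ {b, hi T}, 0 ≤ D.pairing r r' := by
    rintro r ⟨hr, rfl | rfl⟩ r' ⟨hr', rfl | rfl⟩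
    · rw [T.pairing_self _ hr.2]; norm_num
    · rw [h.sl.sm_sk s]; norm_num
    · rw [h.sl.sm_ks s]; norm_num
    · rw [T.pairing_self _ hr.2]; norm_num
  have hcc : ∀ g ∈ XS y (Pos T ∩ {b, hi T}), ∀ g' ∈ XS y (Pos T ∩ {b, hi T}), Commute g g' :=
    fun g hg g' hg' => Rg.comm_XS (fun r hr c => (Rg.comm_XS (fun r' hr' c' =>
      h.sl.com h0 hr.1.2 hr'.1.2 (hcm r hr r' hr') c c') hg).symm) hg'
  clear ha hc
  induction key using closure_induction with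
  | mem g hg =>
    obtain ⟨r, hr, c, rfl⟩ := hg
    exact Rg.x_sq h0 hr.1.2 c
  | one => simp
  | mul g g' hg hg' e e' =>
    rw [mul_assoc, ← mul_assoc g', ← (hcc g hg g' hg').eq, mul_assoc, e', mul_one, e]
  | inv g _ e => rw [← mul_inv_rev, e, inv_one]

theorem conj_free (h : FD T y t τ π) {u : G} (hu : u ∈ Us D y) (hs : u * t * (u * t) = 1) :
    ∃ v ∈ Us D y, v * (u * t) * v⁻¹ = t := by
  have H : Iv T y t π (fun _ => 1) τ := ⟨h.sl, h.st, h.nd, nf_t h, h.tt, h.orth⟩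
  obtain ⟨v, hv, u', hu', e⟩ := H.conj_gen (S₀ := ∅) (Set.empty_subset _) (fun _ _ _ _ m => m.elim)
    (fun _ m => m.elim) (fun u hu => by rw [XS_empty, Subgroup.mem_bot] at hu; rw [hu]; group)
    (fun _ _ _ => Or.inr (H.exists_half h.τ_ne)) H.sym.idl_Pos 1 (one_mem _) u
    (by rwa [← Us_eq_Pos]) (by rwa [one_mul])
  rw [XS_empty, Subgroup.mem_bot] at hu'
  rw [hu', one_mul, one_mul] at e
  exact ⟨v, hv, e⟩

theorem geo (h : FD T y t τ π) : FinS.Geo (Gs D y) (Us D y) (XS y {hi T}) (y (hi T) 1) t := by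
  have L := h.toLD
  have h0 := h.st.toIsSt0
  have H := h.sl
  have θ := hi_lt T
  have UG : Us D y ≤ Gs D y := L.syl.le
  have x0 : ∀ r < 2 * T.N, y r 0 = 1 := fun r hr => h0.x_zero (T.lt_iff.2 hr)
  have ne1 : ∀ r < 2 * T.N, ∀ a, a ≠ 0 → y r a ≠ 1 := fun r hr a ha e =>
    ha (h.nd.x_inj h0 hr (e.trans (x0 r hr).symm))
  have zA : y (hi T) 1 ∈ XS y {hi T} := hi_mem 1
  have col : ∀ r, T.N ≤ r → r < 2 * T.N → r ≠ hi T → ∀ c, c ≠ 0 →
      y (hi T) 1 * y r c ∈ FinS.Rt (Gs D y) (y (hi T) 1) → D.pairing (hi T) r = 1 :=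
    fun r h1 h2 h3 c hc hm => by
      have := H.hi_nonneg h1 h2
      have := H.le_one _ θ _ h2 h3
      by_contra ne
      exact not_rt_orth L θ h2 (by omega) one_ne_zero hc hm
  have πθ := sym_hi H h.g2 h.sym
  refine ⟨L.syl, XS_le.2 fun r hr a => hr ▸ T.mem_Us' (le_hi T) θ a,
    fun u hu => mem_centralizer_iff.2 fun w hw => (hi_cen L hu hw).eq, fun u hu => ?_, zA,
    ne1 _ θ 1 one_ne_zero, Rg.x_sq h0 θ 1, ?_, fun x hx x1 => ?_, fun g hg e => ?_,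
    fun x hx xr zx xA => ?_, fun u hu ur uz x hx => ?_, fun k hk hz => ?_,
    fun a ha hc => ⟨1, one_mem _, by rw [mul_one, z2_sq L ha hc]⟩, fun x hx => ?_,
    ⟨_, _, _, L.par⟩, Au.nf_Us (nf_t h), ?_, fun s hs e => ?_⟩
  · refine XS_mono (fun r hr => ?_) (L.cent_U (Ψ := Pos T) (fun r hr => hr) hu.1 fun r hr =>
      (mem_centralizer_iff.1 hu.2 _ (T.mem_Us' hr.1 hr.2 1)).symm)
    exact dom0 H h.g2 hr.1 hr.2.1 fun s a b => hr.2.2 s ⟨a, b⟩
  · obtain ⟨e, he⟩ := h.τ_ne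
    exact ⟨y (hi T) e, hi_mem e, ne1 _ θ e (by rintro rfl; simp at he),
      fun k => he (by rw [h.nd.x_inj h0 θ k, map_one])⟩
  · obtain ⟨a, rfl⟩ := (mem_XS_one L θ).1 hx
    exact rt_x L θ (by rintro rfl; exact x1 (x0 _ θ))
  · have e1 : g * y (hi T) 1 * g⁻¹ = y (hi T) 1 := by rw [e, mul_inv_cancel_right]
    obtain ⟨c, -, hc⟩ := lin_hi L hg one_ne_zero e1
    have c1 : c = 1 := by simpa using h.nd.x_inj h0 θ ((hc 1).symm.trans e1)
    refine mem_centralizer_iff.2 fun w hw => ?_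
    obtain ⟨a, rfl⟩ := (mem_XS_one L θ).1 hw
    have := hc a
    rw [c1, one_mul] at this
    rw [← mul_inv_eq_iff_eq_mul.1 this]
  · obtain ⟨v, hv, r, r1, r2, c, c0, rfl⟩ := rt_le L xr hx
    have hr : r ≠ hi T := by
      rintro rfl
      exact xA (by rw [hi_conj L hv (hi_mem c)]; exact hi_mem c)
    have ez : ∀ w, y (hi T) 1 * (v * w * v⁻¹) = v * (y (hi T) 1 * w) * v⁻¹ := fun w => by
      conv_lhs => rw [← hi_conj L hv zA]
      group
    have ez' : ∀ w, v * w * v⁻¹ * y (hi T) 1 = v * (w * y (hi T) 1) * v⁻¹ := fun w => by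
      conv_lhs => rw [← hi_conj L hv zA]
      group
    rw [ez, rt_cj (UG hv)] at zx
    have p := col r r1 r2 hr c c0 zx
    obtain ⟨d, d2, p1, p2⟩ := H.exists_tri θ r2 p
    obtain ⟨s, m⟩ := H.exists_sub d2 θ p1
    have q : D.pairing s r = 0 := by
      have := Rg.pair' H m r2
      omega
    refine ⟨v * y s 1 * v⁻¹, (rt_cj (UG hv)).2 (rt_x L m.hs one_ne_zero), ?_, ?_, ?_, ?_, ?_⟩
    · rw [ez, ez', (H.com h0 m.hs θ (by rw [H.sm_sk m]; exact zero_le_one) 1 1).eq]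
    · rw [conj_mul, conj_mul, (H.com h0 m.hs r2 q.ge 1 c).eq]
    · rw [ez', rt_cj (UG hv)]
      exact rt_col L m.hs θ (H.sm_sk m) one_ne_zero 1
    · rw [conj_mul, rt_cj (UG hv)]
      exact not_rt_orth L m.hs r2 q one_ne_zero c0
    · rw [conj_mul, Ne, conj_eq_one_iff, mul_eq_one_iff_eq_inv,
        inv_eq_of_mul_eq_one_right (Rg.x_sq h0 r2 c)]
      intro e
      refine one_ne_zero (indep H h.nd m.hs r2 ?_ (H.ne_neg_of m.hs (by omega)) e).1
      rintro rfl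
      rw [T.pairing_self _ r2] at q
      omega
  · obtain ⟨v, hv, r, r1, r2, c, c0, rfl⟩ := rt_le L ur hu
    obtain ⟨a, rfl⟩ := (mem_XS_one L θ).1 hx
    have ez : ∀ w b, v * w * v⁻¹ * y (hi T) b = v * (w * y (hi T) b) * v⁻¹ := fun w b => by
      conv_lhs => rw [← hi_conj L hv (hi_mem b : y (hi T) b ∈ XS y {hi T})]
      group
    rw [ez, rt_cj (UG hv)] at uz ⊢
    by_cases hr : r = hi T
    · subst hr
      rw [h0.add _ (T.lt_iff.2 θ)]
      by_cases e : c + a = 0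
      · right; rw [e, x0 _ θ]; simp
      · exact Or.inl (rt_x L θ e)
    · rw [← (Rg.hi_comm H h0 1 (T.mem_Us' r1 r2 c)).eq] at uz
      exact Or.inl (rt_col L r2 θ (by rw [H.symm _ r2 _ θ, col r r1 r2 hr c c0 uz]) c0 a)
  · obtain ⟨u, hu, r, r2, c, c0, e⟩ := rg_rep L hk
    have r1 : T.N ≤ r := pos_of_mem L r2 (a := c * 1) (by simpa using c0) (by
      rw [e] at hz
      simpa [mul_assoc] using mul_mem (mul_mem (inv_mem hu) hz) hu)
    refine cj_le_iff_forall.2 fun w hw => ?_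
    obtain ⟨a, rfl⟩ := (mem_XS_one L θ).1 hw
    rw [e]
    exact mul_mem (mul_mem hu (T.mem_Us' r1 r2 _)) (inv_mem hu)
  · obtain ⟨a, rfl⟩ := (mem_XS_one L θ).1 hx
    obtain ⟨i, p1, p2⟩ := h.alpha
    obtain ⟨b, s⟩ := H.exists_sub (T.simple_lt i) θ (by rw [H.symm _ (T.simple_lt i) _ θ, p1])
    have hb : T.N ≤ b := Rg.pos_of_hi H s.hs (by rw [H.sm_ks s]; exact one_pos)
    have πα : π (D.simple i) = D.simple i := by
      obtain ⟨j, e⟩ := h.sym.simple i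
      have := h.sym.pair _ θ _ (T.simple_lt i)
      rw [πθ, e, p1] at this
      by_contra ne
      rw [p2 j fun k => ne (e.trans (by rw [k]))] at this
      exact zero_ne_one this
    have πb : π b = b := by
      have := h.sym.sum _ _ _ s
      rw [πα, πθ] at this
      exact this.uniq' s
    refine ⟨y b 1, T.mem_Us' hb s.hs 1, Rg.x_sq h0 s.hs 1, ?_, y (D.simple i) a,
      T.mem_Us' (T.N_le_simple i) (T.simple_lt i) a, ?_⟩
    · have := h.act b s.hs 1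
      rw [πb, map_one] at this
      exact mul_inv_eq_iff_eq_mul.1 this
    · rw [inv_eq_of_mul_eq_one_right (Rg.x_sq h0 s.hr a), H.conj h0 s.symm, one_mul]
  · have := h.act _ θ 1
    rw [πθ, map_one] at this
    exact mul_inv_eq_iff_eq_mul.1 this
  · obtain ⟨v, hv, e'⟩ := conj_free h hs e
    refine ⟨v⁻¹, inv_mem hv, ?_⟩
    conv_lhs => rw [← e']
    group

theorem FD.fin (h : FD T y t τ π) {X : Subgroup G} {x0 w : G}
    (hb : FinS.Base2 X (Gs D y) (Us D y) t) (hx : FinS.Ex (Gs D y) (y (hi T) 1) t x0 w) :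
    X ≤ 𝐍[Gs D y] := by
  obtain ⟨σ, hσ⟩ := scal h
  exact (hb.fin (geo h) hx).main_tw (h.toLD.chain fun _ _ _ => trivial) hσ

end Cfsg.Agent.SLD
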