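import Cfsg.Agent.SLD.A

/-! Root elements, the scalar. -/

set_option autoImplicit false
set_option linter.unusedSectionVars false
set_option linter.unusedVariables false

namespace Cfsg.Agent.SLD

open Cfsg.Lie Cfsg.Agent.Chev Cfsg.Agent.SLE Subgroup Cfsg.Agent.PLocal.Amb
open scoped commutatorElement

variable {D : ChevalleyDatum} {T : RootTable D}
variable {E : Type*} [Field E] [Finite E] [CharP E 2] {G : Type*} [Group G] [Finite G]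
  {y : ℕ → E → G} {t : G} {τ : E ≃+* E} {π : ℕ → ℕ}

open FinE (exists_simple_pair idl_simple stp_le hi_mem rt_cj)

theorem mem_XS_one (h : LD T y) {r : ℕ} (hr : r < 2 * T.N) {g : G} :
    g ∈ XS y {r} ↔ ∃ a, g = y r a := by
  exact h.st.toIsSt0.mem_XS_singleton (T.lt_iff.2 hr)

theorem rg_rep (h : LD T y) {k : G} (hk : k ∈ Gs D y) : ∃ u ∈ Us D y, ∃ r < 2 * T.N, ∃ c : E,
    c ≠ 0 ∧ ∀ a, k * y (hi T) a * k⁻¹ = u * y r (c * a) * u⁻¹ := by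
  obtain ⟨u, hu, n, -, w, hw, u', hu', rfl⟩ := h.bruhat hk
  obtain ⟨c, hc, e⟩ := hw.conj (hi_lt T)
  refine ⟨u, hu, _, T.act_lt w (hi_lt T), c, hc, fun a => ?_⟩
  rw [← e, mul_assoc (u * n), ← (Rg.hi_comm h.sl h.st.toIsSt0 a hu').eq]
  group

theorem pos_of_mem (h : LD T y) {r : ℕ} (hr : r < 2 * T.N) {a : E} (ha : a ≠ 0)
    (hm : y r a ∈ Us D y) : T.N ≤ r := by
  by_contra hc
  exact ha (h.nd.x_not_mem_Bs (not_le.1 hc) (Us_le_Bs hm))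

theorem rt_x (h : LD T y) {r : ℕ} (hr : r < 2 * T.N) {a : E} (ha : a ≠ 0) :
    y r a ∈ FinS.Rt (Gs D y) (y (hi T) 1) := by
  obtain ⟨d, hd, e⟩ := h.sl.exists_col (hi_lt T)
  obtain ⟨w, rfl⟩ := h.sl.tr0 _ (hi_lt T) r hr
  obtain ⟨g, hg⟩ := AE.ex (T := T) h.st w
  refine ⟨g * hh D y d a, mul_mem (Rg.ae_G hg) (T.Hs_le_Gs (hh_mem_Hs (T.lt_iff.2 hd) ha)), ?_⟩
  have := h.st.hh_conj T hd (hi_lt T) ha 1
  rw [e, zpow_one, mul_one] at this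
  rw [← hg.conj _ (hi_lt T), ← this]
  group

theorem rt_col (h : LD T y) {r s : ℕ} (hr : r < 2 * T.N) (hs : s < 2 * T.N)
    (e : D.pairing r s = 1) {a : E} (ha : a ≠ 0) (b : E) :
    y r a * y s b ∈ FinS.Rt (Gs D y) (y (hi T) 1) := by
  obtain ⟨d, hd⟩ := h.sl.exists_sub hr hs e
  have := rt_conj (rt_x h hr ha) (Rg.xG hd.hs (b / a))
  rwa [h.st.toIsSt0.x_inv (T.lt_iff.2 hd.hs), h.sl.conj h.st.toIsSt0 hd, mul_div_cancel₀ b ha] at this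

theorem not_rt_orth (h : LD T y) {r s : ℕ} (hr : r < 2 * T.N) (hs : s < 2 * T.N)
    (e : D.pairing r s = 0) {a b : E} (ha : a ≠ 0) (hb : b ≠ 0) :
    y r a * y s b ∉ FinS.Rt (Gs D y) (y (hi T) 1) := by
  intro hx
  have h0 := h.st.toIsSt0
  obtain ⟨w, i, j, hij, e1, e2⟩ := exists_simple_pair h.sl hr hs e
  obtain ⟨g, hg⟩ := AE.ex (T := T) h.st w
  obtain ⟨k, hk, e3⟩ := rt_conj hx (Rg.ae_G hg)
  obtain ⟨u, hu, ρ, hρ, c, hc, e4⟩ := rg_rep h hk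
  rw [← conj_mul, hg.conj r hr, hg.conj s hs, e1, e2, e4, mul_one] at e3
  have hU : ∀ i : Fin D.rank, ∀ a, y (D.simple i) a ∈ Us D y := fun i =>
    T.mem_Us' (T.N_le_simple i) (T.simple_lt i)
  have hp : T.N ≤ ρ := pos_of_mem h hρ hc (by
    have := mul_mem (mul_mem (inv_mem hu) (e3 ▸ mul_mem (hU i a) (hU j b))) hu
    simpa [mul_assoc] using this)
  have key : ∀ (i j : Fin D.rank) a b, i ≠ j → ρ ≠ D.simple i →
      y (D.simple i) a * y (D.simple j) b = u * y ρ c * u⁻¹ → a = 0 := fun i j a b hij hi e => by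
    have I := idl_simple (T := T) i
    refine uniq_one h.sl h.nd h0 I.pos (I.closed h.sl) ⟨T.N_le_simple i, T.simple_lt i⟩
      (fun hm => hm.2 rfl) ?_
    rw [← mul_mem_cancel_right (mem_XS (S := Pos T \ {D.simple i})
      ⟨⟨T.N_le_simple j, T.simple_lt j⟩, fun e' => hij (T.simple_injective e').symm⟩ b), e]
    exact Chev.conj_mem_of_mem_normalizer (I.norm h.sl h0 hu) (mem_XS (And.intro ⟨hp, hρ⟩ hi) c)
  by_cases hi : ρ = D.simple i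
  · refine hb (key j i b a hij.symm (fun e' => hij (T.simple_injective (hi.symm.trans e'))) ?_)
    rw [← e3]
    refine (h.sl.com h0 (T.simple_lt i) (T.simple_lt j) ?_ a b).eq.symm
    rw [← e1, ← e2, T.pairing_act w hr hs, e]
  · exact ha (key i j a b hij hi e3)

theorem lin_hi (h : LD T y) {k : G} (hk : k ∈ Gs D y) {a b : E} (ha : a ≠ 0)
    (e : k * y (hi T) a * k⁻¹ = y (hi T) b) :
    ∃ c : E, c ≠ 0 ∧ ∀ a', k * y (hi T) a' * k⁻¹ = y (hi T) (c * a') := by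
  obtain ⟨u, hu, r, hr, c, hc, e1⟩ := rg_rep h hk
  have cm : ∀ b, u * y (hi T) b * u⁻¹ = y (hi T) b := fun b => by
    rw [← (Rg.hi_comm h.sl h.st.toIsSt0 b hu).eq, mul_inv_cancel_right]
  rw [e1, ← cm b, mul_left_inj, mul_right_inj] at e
  obtain rfl := h.nd.root_eq_of_x_eq h.st.toIsSt0 hr (hi_lt T) (mul_ne_zero hc ha) e
  exact ⟨c, hc, fun a' => (e1 a').trans (cm _)⟩

theorem rt_le (h : LD T y) {x : G} (hx : x ∈ FinS.Rt (Gs D y) (y (hi T) 1)) (hU : x ∈ Us D y) :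
    ∃ u ∈ Us D y, ∃ r, T.N ≤ r ∧ r < 2 * T.N ∧ ∃ c, c ≠ 0 ∧ x = u * y r c * u⁻¹ := by
  obtain ⟨k, hk, rfl⟩ := hx
  obtain ⟨u, hu, r, hr, c, hc, e⟩ := rg_rep h hk
  rw [e, mul_one] at hU ⊢
  refine ⟨u, hu, r, pos_of_mem h hr hc ?_, hr, c, hc, rfl⟩
  simpa [mul_assoc] using mul_mem (mul_mem (inv_mem hu) hU) hu

theorem exists_sc (h : LD T y) (e : E) : ∃ σ : G → G, ∀ k ∈ Gs D y, ∀ a,
    σ (k * y (hi T) a * k⁻¹) = k * y (hi T) (e * a) * k⁻¹ := by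
  have h0 := h.st.toIsSt0
  have key : ∀ x : G, ∃ x' : G, ∀ k ∈ Gs D y, ∀ a, x = k * y (hi T) a * k⁻¹ →
      x' = k * y (hi T) (e * a) * k⁻¹ := fun x => by
    by_cases hx : ∃ k ∈ Gs D y, ∃ a, x = k * y (hi T) a * k⁻¹
    swap
    · exact ⟨1, fun k hk a e => (hx ⟨k, hk, a, e⟩).elim⟩
    obtain ⟨k, hk, a, rfl⟩ := hx
    refine ⟨k * y (hi T) (e * a) * k⁻¹, fun k' hk' b e' => ?_⟩
    have e1 : k'⁻¹ * k * y (hi T) a * (k'⁻¹ * k)⁻¹ = y (hi T) b := by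
      rw [show k'⁻¹ * k * y (hi T) a * (k'⁻¹ * k)⁻¹ = k'⁻¹ * (k * y (hi T) a * k⁻¹) * k' by group, e']
      group
    rcases eq_or_ne a 0 with rfl | ha
    · rw [h0.x_zero (T.lt_iff.2 (hi_lt T)), mul_one, mul_inv_cancel] at e1
      rw [h.nd.eq_zero_of_x_eq_one (hi_lt T) e1.symm, mul_zero, h0.x_zero (T.lt_iff.2 (hi_lt T))]
      group
    obtain ⟨c, -, hc⟩ := lin_hi h (mul_mem (inv_mem hk') hk) ha e1
    rw [← h.nd.x_inj h0 (hi_lt T) ((hc a).symm.trans e1), mul_left_comm, ← hc]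
    group
  choose σ hσ using key
  exact ⟨σ, fun k hk a => hσ _ k hk a rfl⟩

theorem nf_t (h : FD T y t τ π) : Nf T y t π (fun _ => 1) τ :=
  ⟨h.sym, fun _ _ => one_ne_zero, fun _ _ => inv_one.symm, fun _ _ _ _ => (mul_one _).symm,
    fun r hr a => by rw [one_mul, h.act r hr]⟩

theorem pair_rep (h : LD T y) {Y Y' : Subgroup G} (hY : Y ∈ FinS.Rg (Gs D y) (XS y {hi T}))
    (hY' : Y' ∈ FinS.Rg (Gs D y) (XS y {hi T})) (h1 : Y ≤ Us D y) (h2 : Y' ≤ Us D y) :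
    ∃ k ∈ Gs D y, ∃ r < 2 * T.N, r ≠ D.neg (hi T) ∧ Y = cj(k, XS y {hi T}) ∧
      Y' = cj(k, XS y {r}) := by
  obtain ⟨k, hk, rfl⟩ := hY
  obtain ⟨k', hk', rfl⟩ := hY'
  obtain ⟨u, hu, r, hr, c, c0, e⟩ := rg_rep h (mul_mem (inv_mem hk) hk')
  have θ := hi_lt T
  have e1 : cj(k, XS y {hi T}) = cj(k * u, XS y {hi T}) := by
    rw [cj_mul, cj_of_mem_normalizer (g := u) (centralizer_le_normalizer' _ fun x hx => ?_)]
    obtain ⟨a, rfl⟩ := (mem_XS_one h θ).1 hx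
    exact Rg.hi_comm h.sl h.st.toIsSt0 a hu
  have e' : ∀ a, k' * y (hi T) a * k'⁻¹ = k * u * y r (c * a) * (k * u)⁻¹ := fun a => by
    calc _ = k * (k⁻¹ * k' * y (hi T) a * (k⁻¹ * k')⁻¹) * k⁻¹ := by group
      _ = _ := by rw [e]; group
  have e2 : cj(k', XS y {hi T}) = cj(k * u, XS y {r}) := by
    ext x
    simp only [mem_cj_iff_exists, mem_XS_one h θ, mem_XS_one h hr]
    constructor
    · rintro ⟨_, ⟨a, rfl⟩, rfl⟩
      exact ⟨_, ⟨_, rfl⟩, (e' a).symm⟩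
    · rintro ⟨_, ⟨a, rfl⟩, rfl⟩
      exact ⟨_, ⟨c⁻¹ * a, rfl⟩, by rw [e', mul_inv_cancel_left₀ c0]⟩
  refine ⟨k * u, mul_mem hk (stp_le T hu), r, hr, ?_, e1, e2⟩
  rintro rfl
  have := Fact.mk Nat.prime_two
  have m1 := h1 (e1 ▸ conj_mem_cj (k * u) (mem_XS (x := y) (S := {hi T}) rfl 1))
  have m2 := h2 (e2 ▸ conj_mem_cj (k * u) (mem_XS (x := y) (S := {D.neg (hi T)}) rfl 1))
  have aa := Rg.x_sq h.st.toIsSt0 θ (1 : E)
  have bb := Rg.x_sq h.st.toIsSt0 hr (1 : E)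
  have n := (AE.rw h.st θ).conj _ θ 1
  have aU : y (hi T) 1 ∈ Us D y := mem_XS ((T.pos_iff _).2 ⟨le_hi T, θ⟩) 1
  rw [T.act_rw_self θ, nn, inv_one, CharTwo.neg_eq] at n
  refine absurd (pos_of_mem h hr one_ne_zero ?_) (T.neg_lt_N (le_hi T) θ).not_ge
  generalize y (hi T) 1 = a at *
  generalize y (D.neg (hi T)) 1 = b at *
  have ai : a⁻¹ = a := inv_eq_of_mul_eq_one_right aa
  have bi : b⁻¹ = b := inv_eq_of_mul_eq_one_right bb
  have h3 : (a * b) ^ 3 = 1 := by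
    rw [mul_inv_rev, mul_inv_rev, ai, bi, mul_assoc (a * b), aa, mul_one] at n
    calc (a * b) ^ 3 = a * b * (a * (b * a)) * b := by simp only [pow_succ, pow_zero, one_mul, mul_assoc]
      _ = 1 := by rw [n, bb]
  have h4 := eq_one_of_isPGroup_of_coprime h.two_Us (mul_mem m1 m2) (by
    rw [show k * u * a * (k * u)⁻¹ * (k * u * b * (k * u)⁻¹) = k * u * (a * b) * (k * u)⁻¹ by group,
      orderOf_conj']
    exact Nat.Coprime.coprime_dvd_left (orderOf_dvd_of_pow_eq_one h3) (by decide))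
  have h5 : a * b = 1 := by
    calc a * b = (k * u)⁻¹ * (k * u * a * (k * u)⁻¹ * (k * u * b * (k * u)⁻¹)) * (k * u) := by group
      _ = 1 := by rw [h4]; group
  rw [eq_inv_of_mul_eq_one_right h5]
  exact inv_mem aU

theorem scal (h : FD T y t τ π) :
    ∃ σ, FinS.Scal (Gs D y) (Us D y) (XS y {hi T}) t σ := by
  obtain ⟨e, he⟩ := h.τ_ne
  have hL := h.toLD
  have s0 := hL.st.toIsSt0
  have θ := hi_lt T
  have ne : e + τ e ≠ 0 := fun k => he (by rw [eq_neg_of_add_eq_zero_right k, CharTwo.neg_eq])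
  obtain ⟨e₀, he₀⟩ : ∃ e₀ : E, τ e₀ = e₀ + 1 := ⟨e / (e + τ e), by
    rw [map_div₀, map_add, h.ττ, add_comm (τ e) e, div_add_one ne, ← add_assoc, CharTwo.add_self_eq_zero,
      zero_add]⟩
  obtain ⟨σ, hσ⟩ := exists_sc hL e₀
  have hσ' : ∀ k ∈ Gs D y, ∀ r < 2 * T.N, ∀ a,
      σ (k * y r a * k⁻¹) = k * y r (e₀ * a) * k⁻¹ := fun k hk r hr a => by
    obtain ⟨w, rfl⟩ := hL.sl.tr0 _ θ r hr
    obtain ⟨g, hg⟩ := AE.ex hL.st w
    have := hσ (k * g) (mul_mem hk (Rg.ae_G hg)) a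
    rw [← hg.conj _ θ, ← hg.conj _ θ]
    simpa only [mul_inv_rev, mul_assoc] using this
  have mem : ∀ {k x : G} {r : ℕ}, r < 2 * T.N → x ∈ cj(k, XS y {r}) →
      ∃ a, x = k * y r a * k⁻¹ := fun hr hx => by
    obtain ⟨_, hz, rfl⟩ := mem_cj_iff_exists.1 hx
    obtain ⟨a, rfl⟩ := (mem_XS_one hL hr).1 hz
    exact ⟨a, rfl⟩
  have cc : ∀ k a b : G, ⁅k * a * k⁻¹, k * b * k⁻¹⁆ = k * ⁅a, b⁆ * k⁻¹ := fun k a b => by
    simp only [commutatorElement_def]; group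
  have key : ∀ r < 2 * T.N, r ≠ D.neg (hi T) → ∃ s < 2 * T.N, 0 ≤ D.pairing (hi T) s ∧ ∃ ε : E,
      ∀ a b, ⁅y r b, y (hi T) a⁆ = y s (ε * (a * b)) := fun r hr ne => by
    rcases hL.sl.tri_cases θ hr with e | e | ⟨s, e⟩
    · exact absurd e ne
    · refine ⟨r, hr, e, 0, fun a b => ?_⟩
      rw [zero_mul, s0.x_zero (T.lt_iff.2 hr), commutatorElement_eq_one_iff_commute]
      exact (hL.sl.com s0 θ hr e a b).symm
    · refine ⟨s, e.hk, by rw [hL.sl.sm_rk e]; decide, 1, fun a b => ?_⟩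
      rw [one_mul, commutatorElement_def, hL.sl.sum s0 e, mul_assoc (y (hi T) a),
        (hL.sl.com s0 hr e.hk (by rw [hL.sl.sm_sk e]; decide) b _).eq, ← mul_assoc,
        mul_inv_cancel_right, (hL.sl.com s0 θ e.hk (by rw [hL.sl.sm_rk e]; decide) a _).eq,
        mul_inv_cancel_right]
  refine ⟨σ, ?_, fun Y hY h1 Y' hY' h2 x hx w hw => ?_, fun Y hY h1 Y' hY' h2 x hx w hw => ?_, ?_⟩
  · rintro _ ⟨k, hk, rfl⟩ - x hx
    obtain ⟨a, rfl⟩ := mem θ hx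
    rw [hσ k hk]
    exact conj_mem_cj k (mem_XS (S := {hi T}) rfl _)
  · obtain ⟨k, hk, r, hr, ne, rfl, rfl⟩ := pair_rep hL hY hY' h1 h2
    obtain ⟨a, rfl⟩ := mem θ hx
    obtain ⟨b, rfl⟩ := mem hr hw
    obtain ⟨s, -, -, ε, c⟩ := key r hr ne
    rw [hσ k hk, hσ' k hk r hr, cc, cc, c, c, mul_left_comm a, mul_assoc e₀]
  · obtain ⟨k, hk, r, hr, ne, rfl, rfl⟩ := pair_rep hL hY hY' h1 h2
    obtain ⟨a, rfl⟩ := mem θ hx
    obtain ⟨b, rfl⟩ := mem hr hw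
    obtain ⟨s, hs, p, ε, c⟩ := key r hr ne
    rw [cc, c, centralizer_cj]
    refine conj_mem_cj k fun g hg => ?_
    obtain ⟨a', rfl⟩ := (mem_XS_one hL θ).1 hg
    exact hL.sl.com s0 θ hs p _ _
  · rintro _ ⟨k, hk, rfl⟩ - x hx
    obtain ⟨a, rfl⟩ := mem θ hx
    have tk : t * k * t⁻¹ ∈ Gs D y :=
      Chev.conj_mem_of_mem_normalizer (Au.nf_Gs (nf_t h)) hk
    have c : ∀ a, t * (k * y (hi T) a * k⁻¹) * t⁻¹ =
        t * k * t⁻¹ * y (hi T) (τ a) * (t * k * t⁻¹)⁻¹ := fun a => by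
      have := h.act _ θ a
      rw [sym_hi hL.sl hL.g2 h.sym] at this
      rw [← this]; group
    rw [hσ k hk, c, c, hσ _ tk, map_mul, he₀, add_mul, one_mul, ← s0.add _ (T.lt_iff.2 θ)]
    group

end Cfsg.Agent.SLD
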